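import Cfsg.Agent.H727.Orth.SporTool
import Cfsg.Agent.H121.Cyc.Mathieu
import Cfsg.Agent.H298.EOFiveTest
import Cfsg.Agent.MTwelve.SmallDegree
import Cfsg.Agent.H253.Orth.J2Sixteen
import Cfsg.Agent.J2.HundredGens
import Cfsg.Agent.S1619
import Cfsg.Agent.NotCT.Orders

/-!
# Degrees at least eight: `M11`, `M12`, `M22`, `J2`, `HS`, `McL` (S4869, helper253)
-/

set_option autoImplicit false

namespace Cfsg.Agent.H253.Orth

open Cfsg Subgroup
open Cfsg.Agent.Characters.Core
open Cfsg.Agent.H727.Orth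
open Cfsg.Agent.H122 (MinDeg)

universe u

variable {S : Type u} [Group S] [Finite S]

/-- degrees of nontrivial representations -/
theorem deg8_of_rep (h : ∀ (n : ℕ) (ρ : Representation ℂ S (Fin n → ℂ)), (∃ g, ρ g ≠ 1) → Even n → 8 ≤ n) :
    Deg8 S := by
  intro θ hθ he
  obtain ⟨n, ρ, hρ, rfl⟩ := hθ
  have hd : charDegree ρ.character = n := by
    unfold charDegree
    rw [Representation.char_one]
    simp
  rw [hd] at he ⊢
  refine h n ρ ?_ he
  by_contra hno
  push Not at hno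
  have h1 : ρ.character = fun _ => (n : ℂ) := by
    funext g
    rw [Representation.character, hno]
    simp
  have := Fintype.ofFinite S
  have h2 : classInner ρ.character ρ.character = 1 :=
    classInner_irr_self (⟨n, ρ, hρ, rfl⟩ : IsIrrCharacter S ρ.character)
  rw [h1, classInner_def] at h2
  simp only [map_natCast, Finset.sum_const, Finset.card_univ, nsmul_eq_mul, ← Nat.card_eq_fintype_card] at h2
  have h3 : (Nat.card S : ℂ) ≠ 0 := by exact_mod_cast Nat.card_pos.ne'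
  rw [← mul_assoc, inv_mul_cancel₀ h3, one_mul] at h2
  have h4 : n * n = 1 := by exact_mod_cast h2
  have h5 : n = 1 := Nat.eq_one_of_mul_eq_one_left h4
  rw [h5] at he
  exact absurd he (by decide)

theorem deg8_of_minDeg {b : ℕ} (hb : 7 ≤ b) (h : MinDeg S b) : Deg8 S :=
  deg8_of_rep fun n ρ hρ he => by
    have h1 := h (Fin n → ℂ) ρ hρ
    rw [Module.finrank_fin_fun] at h1
    obtain ⟨k, hk⟩ := he
    omega

theorem sum_sixteen (x y z : ℂ) : ∑ i : Fin 16, (if i = 0 then x else if i < 4 then y else z) =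
    x + 3 * y + 12 * z := by
  have h : ∀ g : Fin 16 → ℂ, ∑ i, g i = g 0 + (g 1 + g 2 + g 3) + (g 4 + g 5 + g 6 + g 7 + g 8 + g 9 + g 10 + g 11 +
      g 12 + g 13 + g 14 + g 15) := by
    intro g
    simp only [Fin.sum_univ_succ, Fin.sum_univ_zero]
    have e : ∀ i : Fin 16, g i = g i := fun _ => rfl
    change g 0 + (g 1 + (g 2 + (g 3 + (g 4 + (g 5 + (g 6 + (g 7 + (g 8 + (g 9 + (g 10 + (g 11 + (g 12 + (g 13 + (g 14 +
      (g 15 + 0))))))))))))))) = _
    ring
  rw [h]
  have h0 : ∀ i : Fin 16, 4 ≤ i → (if i = 0 then x else if i < 4 then y else z) = z := by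
    intro i hi
    rw [if_neg (by rintro rfl; exact absurd hi (by decide)), if_neg (not_lt.2 hi)]
  rw [h0 4 (by decide), h0 5 (by decide), h0 6 (by decide), h0 7 (by decide), h0 8 (by decide), h0 9 (by decide),
    h0 10 (by decide), h0 11 (by decide), h0 12 (by decide), h0 13 (by decide), h0 14 (by decide), h0 15 (by decide),
    if_pos rfl, if_neg (by decide), if_pos (by decide), if_neg (by decide), if_pos (by decide), if_neg (by decide),
    if_pos (by decide)]
  ring

/-- An elementary abelian subgroup of order sixteen, with three conjugate and twelve conjugate involutions. -/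
theorem le_of_sixteen [IsSimpleGroup S] (hna : ¬ ∀ a b : S, a * b = b * a) (f : Fin 16 → S) (h0 : f 0 = 1)
    (hmul : ∀ i j : Fin 16, ∃ k, f i * f j = f k) (hsq : ∀ i, f i * f i = 1) (hinj : Function.Injective f) (a b : S)
    (ha : ∀ i : Fin 16, i ≠ 0 → i < 4 → IsConj a (f i)) (hb : ∀ i : Fin 16, 4 ≤ i → IsConj b (f i))
    {n : ℕ} (ρ : Representation ℂ S (Fin n → ℂ)) (hρ : ∃ g, ρ g ≠ 1) : 8 ≤ n := by
  classical
  have hcl : ∀ x y : S, IsConj x y → ρ.character x = ρ.character y := by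
    intro x y hxy
    obtain ⟨g, hg⟩ := isConj_iff.1 hxy
    rw [← hg, Representation.char_conj]
  have h1 : ρ.character 1 = (n : ℂ) := by
    rw [Representation.char_one, Module.finrank_fin_fun]
  have hχ : IsCharacter S ρ.character := ⟨n, ρ, rfl⟩
  let B : Subgroup S :=
    { carrier := Set.range f
      mul_mem' := by
        rintro _ _ ⟨i, rfl⟩ ⟨j, rfl⟩
        obtain ⟨k, hk⟩ := hmul i j
        exact ⟨k, hk.symm⟩
      one_mem' := ⟨0, h0⟩
      inv_mem' := by
        rintro _ ⟨i, rfl⟩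
        exact ⟨i, (inv_eq_of_mul_eq_one_left (hsq i)).symm⟩ }
  let e : Fin 16 ≃ B := Equiv.ofInjective f hinj
  have : Fintype B := Fintype.ofEquiv _ e
  have hcard : Nat.card B = 16 := by
    rw [← Nat.card_congr e, Nat.card_eq_fintype_card, Fintype.card_fin]
  obtain ⟨m, hm⟩ := Cfsg.Agent.H298.EOFiveTest.exists_sum (isCharacter_comp B.subtype hχ)
  rw [hcard, ← Equiv.sum_comp e] at hm
  have h2 : ∀ i : Fin 16, (ρ.character ∘ B.subtype) (e i) = if i = 0 then (n : ℂ) else
      if i < 4 then ρ.character a else ρ.character b := by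
    intro i
    show ρ.character (f i) = _
    split_ifs with h h'
    · rw [h, h0, h1]
    · exact (hcl _ _ (ha i h h')).symm
    · exact (hcl _ _ (hb i (not_lt.1 h'))).symm
  rw [Finset.sum_congr rfl fun i _ => h2 i, sum_sixteen] at hm
  have ha2 : a ^ 2 = 1 := by
    obtain ⟨g, hg⟩ := isConj_iff.1 (ha 1 (by decide) (by decide)).symm
    have h3 := hsq 1
    rw [← hg, pow_two]
    calc g * f 1 * g⁻¹ * (g * f 1 * g⁻¹) = g * (f 1 * f 1) * g⁻¹ := by group
      _ = 1 := by rw [h3]; group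
  have hb2 : b ^ 2 = 1 := by
    obtain ⟨g, hg⟩ := isConj_iff.1 (hb 4 (by decide)).symm
    have h3 := hsq 4
    rw [← hg, pow_two]
    calc g * f 4 * g⁻¹ * (g * f 4 * g⁻¹) = g * (f 4 * f 4) * g⁻¹ := by group
      _ = 1 := by rw [h3]; group
  have hperf := commutator_top_of_simple hna
  obtain ⟨i, hi⟩ := Cfsg.Agent.MTwelve.SmallDegree.character_eq_add_four_mul hperf hχ ha2
  obtain ⟨j, hj⟩ := Cfsg.Agent.MTwelve.SmallDegree.character_eq_add_four_mul hperf hχ hb2
  obtain ⟨c, d, hc, hd⟩ := Cfsg.Agent.MTwelve.SmallDegree.exists_eq_sub_of_sq_eq_one hχ ha2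
  rw [h1] at hi hj hc
  have ha1 : a ≠ 1 := by
    intro h
    have h3 : IsConj (1 : S) (f 1) := h ▸ ha 1 (by decide) (by decide)
    have h4 : f 1 = f 0 := by rw [h0, isConj_one_right.1 h3]
    exact absurd (hinj h4) (by decide)
  -- the two elements
  have e1 : (n : ℤ) = c - d + 4 * i := by
    have : (n : ℂ) = (c - d : ℂ) + 4 * i := by rw [← hd]; exact hi
    exact_mod_cast this
  have e2 : (n : ℤ) = c + d := by exact_mod_cast hc
  have e3 : ρ.character b = n - 4 * j := by rw [hj]; ring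
  have e4 : ρ.character a = n - 4 * i := by rw [hi]; ring
  rw [e3, e4] at hm
  have e5 : (n : ℤ) + 3 * (n - 4 * i) + 12 * (n - 4 * j) = 16 * m := by exact_mod_cast hm
  have hi0 : i ≠ 0 := by
    rintro rfl
    have h3 : ρ.character a = (Module.finrank ℂ (Fin n → ℂ) : ℂ) := by
      rw [e4, Module.finrank_fin_fun]; simp
    rw [Cfsg.Agent.Characters.Values.character_eq_finrank_iff] at h3
    -- the kernel is trivial
    let K : Subgroup S := MonoidHom.ker ρ
    have hK : K.Normal := inferInstance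
    rcases hK.eq_bot_or_eq_top with h | h
    · exact ha1 (Subgroup.mem_bot.1 (h ▸ (MonoidHom.mem_ker.2 h3 : a ∈ K)))
    · obtain ⟨g, hg⟩ := hρ
      exact hg (MonoidHom.mem_ker.1 (h ▸ Subgroup.mem_top g : g ∈ K))
  omega

open Cfsg.Agent.SporadicA.J2Hundred in
theorem deg8_j2_perm (hs : IsSimpleGroup G) (hna : ¬ ∀ a b : G, a * b = b * a) : Deg8 G := by
  refine deg8_of_rep fun n ρ hρ _ => ?_
  refine le_of_sixteen hna (fun i => ⟨J2.elt i, J2.elt_mem i⟩) ?_ ?_ ?_ ?_ ⟨J2.pg 0, J2.pg_mem 0⟩ ⟨J2.pg 3, J2.pg_mem 3⟩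
    ?_ ?_ ρ hρ
  · exact Subtype.ext (show J2.elt 0 = 1 from if_pos rfl)
  · intro i j
    exact ⟨⟨(i : ℕ) ^^^ j, Nat.xor_lt_two_pow (n := 4) i.2 j.2⟩, Subtype.ext (J2.elt_mul i.2 j.2)⟩
  · intro i
    refine Subtype.ext ((J2.elt_mul i.2 i.2).trans ?_)
    rw [Nat.xor_self]
    exact if_pos rfl
  · intro i j hij
    by_contra hne
    have h1 : J2.elt i = J2.elt j := congrArg Subtype.val hij
    have h2 : J2.elt ((i : ℕ) ^^^ j) = 1 := by
      rw [← J2.elt_mul i.2 j.2, h1, J2.elt_mul j.2 j.2, Nat.xor_self]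
      exact if_pos rfl
    refine J2.elt_ne_one ?_ (Nat.xor_lt_two_pow (n := 4) i.2 j.2) h2
    intro h
    exact hne (Fin.ext (Nat.xor_eq_zero_iff.1 h))
  · intro i h0 h4
    refine isConj_iff.2 ⟨⟨J2.wp (J2.cw i), J2.wp_mem _⟩, Subtype.ext ?_⟩
    have h0' : (i : ℕ) ≠ 0 := fun h => h0 (Fin.ext h)
    have h4' : (i : ℕ) < 4 := h4
    show J2.wp (J2.cw i) * J2.pg 0 * (J2.wp (J2.cw i))⁻¹ = J2.elt i
    rw [J2.elt_conj h0']
    have : J2.bc i = 0 := by
      revert h4'
      generalize (i : ℕ) = k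
      intro hk
      interval_cases k <;> rfl
    rw [this]
  · intro i h4
    have h4' : 4 ≤ (i : ℕ) := h4
    refine isConj_iff.2 ⟨⟨J2.wp (J2.cw i), J2.wp_mem _⟩, Subtype.ext ?_⟩
    show J2.wp (J2.cw i) * J2.pg 3 * (J2.wp (J2.cw i))⁻¹ = J2.elt i
    rw [J2.elt_conj (by omega)]
    have : J2.bc i = 3 := by
      obtain ⟨k, hk⟩ := Nat.exists_eq_add_of_le h4'
      rw [hk, add_comm]
      rfl
    rw [this]

/-! ### The groups -/

theorem deg8_m11 {K : Type u} [Group K] [IsSimpleGroup K] [Finite K] (h : Spor.IsoM11 K) : Deg8 K :=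
  deg8_of_minDeg (by norm_num) (H121.Cyc.m11 h)

theorem deg8_m12 {K : Type u} [Group K] [IsSimpleGroup K] [Finite K] (h : Spor.IsoM12 K) : Deg8 K :=
  deg8_of_minDeg (by norm_num) (H121.Cyc.m12 h)

theorem deg8_m22 {K : Type u} [Group K] [IsSimpleGroup K] [Finite K] (h : Spor.IsoM22 K) : Deg8 K :=
  deg8_of_minDeg (by norm_num) (H121.Cyc.m22 h)

theorem deg8_hs {K : Type u} [Group K] [IsSimpleGroup K] [Finite K] (h : Spor.IsoHS K) : Deg8 K :=
  deg8_of_minDeg (by norm_num) (H121.Cyc.hs h)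

theorem deg8_mcl {K : Type u} [Group K] [IsSimpleGroup K] [Finite K] (h : Spor.IsoMcL K) : Deg8 K :=
  deg8_of_minDeg (by norm_num) (H121.Cyc.mcl h)

theorem deg8_j2 {K : Type u} [Group K] [IsSimpleGroup K] [Finite K] (h : Spor.IsoJ2 K) : Deg8 K := by
  have hn := NotCT.Orders.j2 h
  have hna := Cfsg.Agent.H253.TC.not_comm_of_card hn (by norm_num) (p := 7) (by norm_num) (by norm_num) (by norm_num)
  obtain ⟨e⟩ := h
  obtain ⟨f⟩ := Cfsg.Agent.J2.HundredGens.J2_iso Cfsg.Agent.S1619.result.2.2.2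
  have e' : Cfsg.Agent.SporadicA.J2Hundred.G ≃* K := (e.trans f).symm
  have hs : IsSimpleGroup Cfsg.Agent.SporadicA.J2Hundred.G := e'.isSimpleGroup
  exact Deg8.congr e' (deg8_j2_perm hs fun hab => hna fun a b => e'.symm.injective (by
    rw [map_mul, map_mul, hab]))

end Cfsg.Agent.H253.Orth
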