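import Cfsg.Agent.H727.Orth.SporTool
import Cfsg.Agent.H687.HeRow
import Cfsg.Agent.H253.TwoComm.SporTool

/-!
# The Held group: an even-degree orthogonal character (S4869, helper253)

The permutation character of degree 8330 has norm 7, and the class of the point stabilizers is invariant under all
automorphisms.
-/

set_option autoImplicit false

namespace Cfsg.Agent.H253.Orth

open Cfsg Subgroup
open Cfsg.Agent.Characters.Core
open Cfsg.Agent.H727.Orth
open Cfsg.Agent.H694 (RChar rchar_perm permC permC_one)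

universe u

/-- **Invariant permutation characters** with an odd parity. -/
theorem evenO_of_points {S : Type u} [Group S] [Finite S] [Fintype S] (hc : Subgroup.center S = ⊥) {X : Type*} [Finite X]
    (St : X → Subgroup S) (hinj : Function.Injective St)
    (haut : ∀ (α : MulAut S) (x : X), ∃ y, (St x).map (α : S ≃* S).toMonoidHom = St y)
    (hnorm : ∀ (s : S) (x : X), (St x).map (MulAut.conj s).toMonoidHom = St x ↔ s ∈ St x) {a : ℤ}
    (ha : classInner (fun s : S => (Nat.card {x : X // s ∈ St x} : ℂ)) (fun s => (Nat.card {x : X // s ∈ St x} : ℂ)) = a)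
    (hab : Odd (a + Nat.card X)) : EvenO S := by
  classical
  have := Fintype.ofFinite (MulAut S)
  let 𝒳 : Set (Subgroup S) := Set.range St
  have h𝒳 : ∀ α : S ≃* S, ∀ H ∈ 𝒳, H.map α.toMonoidHom ∈ 𝒳 := by
    rintro α _ ⟨x, rfl⟩
    obtain ⟨y, hy⟩ := haut α x
    exact ⟨y, hy.symm⟩
  let _ := actAut 𝒳 h𝒳
  have : Finite 𝒳 := Subtype.finite
  let e : X ≃ 𝒳 := Equiv.ofInjective St hinj
  have hπ : RChar (permC (MulAut S) 𝒳) := rchar_perm 𝒳
  have : Fintype (⊤ : Subgroup (MulAut S)) := Fintype.ofFinite _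
  have hπ' : RChar (fun x : (⊤ : Subgroup (MulAut S)) => permC (MulAut S) 𝒳 (x : MulAut S)) :=
    hπ.comp (Subgroup.subtype ⊤)
  have hres : ∀ s : S, permC (MulAut S) 𝒳 (MulAut.conj s) = (Nat.card {x : X // s ∈ St x} : ℂ) := by
    intro s
    rw [permC]
    congr 1
    symm
    refine Nat.card_congr (e.subtypeEquiv fun x => ?_)
    rw [MulAction.mem_fixedBy, ← hnorm]
    constructor
    · intro h
      exact Subtype.ext h
    · intro h
      exact congrArg Subtype.val h
  obtain ⟨θ, h1, h2, h3, -, h5⟩ := oext_of_parity hc ⊤ (by rw [Subgroup.index_top]; exact odd_one)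
    (fun s => Subgroup.mem_top _) hπ' (a := a) (b := (Nat.card 𝒳 : ℤ)) (by
      show classInner (fun s : S => permC (MulAut S) 𝒳 (MulAut.conj s))
        (fun s : S => permC (MulAut S) 𝒳 (MulAut.conj s)) = _
      rw [funext hres]
      exact ha) (by
      show permC (MulAut S) 𝒳 1 = _
      rw [permC_one]
      push_cast
      rfl) (by
      rw [← Nat.card_congr e]
      exact hab)
  exact ⟨θ, h1, h2, h3, h5⟩

/-- the norm of a sum of distinct irreducible characters -/
theorem norm_sum_irr {S : Type u} [Group S] [Fintype S] {r : ℕ} {χ : Fin r → S → ℂ}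
    (h1 : ∀ s, IsIrrCharacter S (χ s)) (h2 : ∀ s t, s ≠ t → χ s ≠ χ t) :
    classInner (∑ s, χ s) (∑ s, χ s) = (r : ℂ) := by
  classical
  rw [classInner_sum_left]
  have h : ∀ s : Fin r, classInner (χ s) (∑ t, χ t) = 1 := by
    intro s
    rw [classInner_sum_right, Finset.sum_eq_single s]
    · exact classInner_irr_self (h1 s)
    · intro t _ hts
      exact classInner_irr_ne (h1 s) (h1 t) (h2 s t hts.symm)
    · intro h
      exact absurd (Finset.mem_univ s) h
  rw [Finset.sum_congr rfl fun s _ => h s]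
  simp

end Cfsg.Agent.H253.Orth

namespace Cfsg.Agent.H253.Orth.He

open Cfsg Cfsg.Spor Cfsg.Spor.He Cfsg.Agent.Lib.PermNet Cfsg.Agent.Lib.PermNetOrbit Cfsg.Agent.H687.HeNetData
  Cfsg.Agent.H687.He8330 Cfsg.Agent.H997.OutHe Cfsg.Agent.FixBN.HeStab Cfsg.Agent.H687.HeRow
open Cfsg.Agent.SporRec.CosetBulk (rangeCheck lt_iff_of_rangeCheck)

/-- the point stabilizers -/
noncomputable def St (i : Fin 8330) : Subgroup Cfsg.Spor.He where
  carrier := {g | phi g i = i}
  one_mem' := by
    show phi 1 i = i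
    rw [map_one]; rfl
  mul_mem' := by
    intro a b (ha : phi a i = i) (hb : phi b i = i)
    show phi (a * b) i = i
    rw [map_mul, Equiv.Perm.mul_apply, hb, ha]
  inv_mem' := by
    intro a (ha : phi a i = i)
    show phi a⁻¹ i = i
    rw [map_inv, Equiv.Perm.inv_eq_iff_eq, ha]

theorem mem_St {g : Cfsg.Spor.He} {i : Fin 8330} : g ∈ St i ↔ phi g i = i := Iff.rfl

theorem map_St {t : Equiv.Perm ℕ} (ht : ∀ i, t i < 8330 ↔ i < 8330) {α : Cfsg.Spor.He ≃* Cfsg.Spor.He}
    (h : ∀ g, t * phi g = phi (α g) * t) (i : Fin 8330) :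
    (St i).map α.toMonoidHom = St ⟨t i, (ht i).2 i.2⟩ := by
  ext g
  rw [mem_St]
  constructor
  · rintro ⟨k, hk, rfl⟩
    have h1 := congrArg (fun p : Equiv.Perm ℕ => p i) (h k)
    simp only [Equiv.Perm.mul_apply] at h1
    rw [mem_St.1 hk] at h1
    exact h1.symm
  · intro hg
    refine ⟨α.symm g, ?_, α.apply_symm_apply g⟩
    show phi (α.symm g) i = i
    have h1 := congrArg (fun p : Equiv.Perm ℕ => p i) (h (α.symm g))
    simp only [Equiv.Perm.mul_apply, MulEquiv.apply_symm_apply] at h1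
    have h2 : phi g (t i) = t i := hg
    rw [h2] at h1
    exact t.injective h1

theorem map_conj (g : Cfsg.Spor.He) (i : Fin 8330) :
    (St i).map (MulAut.conj g).toMonoidHom = St ⟨phi g i, (phi_lt_iff g i).2 i.2⟩ := by
  refine map_St (phi_lt_iff g) (fun k => ?_) i
  rw [MulAut.conj_apply, ← map_mul, ← map_mul, inv_mul_cancel_right]

theorem chk_moved : ((List.range 7).all fun i => (Nat.beq i 0 || (wordsK.any fun w =>
    !(Nat.beq (ptWord (w.map net) (yy i)) (yy i))))) = true := by decide +kernel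

/-- only `0` is fixed by the stabilizer of `0` -/
theorem eq_zero {p : ℕ} (hp : p < 8330) (h : ∀ g ∈ HH, phi g p = p) : p = 0 := by
  obtain ⟨i, hi⟩ := coverU p hp
  obtain ⟨k, hk, hkp⟩ := (orb i i.2 p).1 hi
  have h1 : yy i = p := by
    have h2 := h k⁻¹ (inv_mem hk)
    rw [map_inv, Equiv.Perm.inv_eq_iff_eq] at h2
    exact (phi k).injective (by rw [hkp, ← h2])
  by_cases h0 : (i : ℕ) = 0
  · rw [← h1, h0]; rfl
  · exfalso
    have h3 := chk_moved
    rw [List.all_eq_true] at h3
    have h4 := h3 i (List.mem_range.2 i.2)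
    rw [Bool.or_eq_true] at h4
    rcases h4 with h4 | h4
    · exact h0 (Nat.eq_of_beq_eq_true h4)
    · rw [List.any_eq_true] at h4
      obtain ⟨w, hw, h5⟩ := h4
      rw [ptWord_eq (wok w), ← phi_wd, h1, h _ (wd_mem hw)] at h5
      simp at h5

theorem St_injective : Function.Injective St := by
  intro i j hij
  obtain ⟨g, hg⟩ := trans i i.2
  have h1 : (St i).map (MulAut.conj g⁻¹).toMonoidHom = (St j).map (MulAut.conj g⁻¹).toMonoidHom := by rw [hij]
  rw [map_conj, map_conj] at h1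
  have h2 : phi g⁻¹ i = 0 := by rw [map_inv, Equiv.Perm.inv_eq_iff_eq, hg]
  have h3 : phi g⁻¹ j = 0 := by
    refine eq_zero ((phi_lt_iff _ _).2 j.2) fun k hk => ?_
    have h4 : k ∈ St ⟨phi g⁻¹ i, (phi_lt_iff g⁻¹ i).2 i.2⟩ := by
      show phi k (phi g⁻¹ i) = phi g⁻¹ i
      rw [h2]
      exact (index_HH.2.1 k).2 hk
    rw [h1] at h4
    exact h4
  exact Fin.ext ((phi g⁻¹).injective (h2.trans h3.symm))

theorem map_aut (σ : MulAut Cfsg.Spor.He) (i : Fin 8330) :
    ∃ j, (St i).map (σ : Cfsg.Spor.He ≃* Cfsg.Spor.He).toMonoidHom = St j := by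
  have hconj : ∀ (τ : MulAut Cfsg.Spor.He), τ ∈ (MulAut.conj : Cfsg.Spor.He →* MulAut Cfsg.Spor.He).range →
      ∀ i, ∃ j, (St i).map (τ : Cfsg.Spor.He ≃* Cfsg.Spor.He).toMonoidHom = St j := by
    rintro _ ⟨k, rfl⟩ i
    exact ⟨_, map_conj k i⟩
  rcases KFacts.He.Outer.index_le_two (K := Cfsg.Spor.He) ⟨MulEquiv.refl _⟩ with h | h
  · rw [Subgroup.index_eq_one] at h
    exact hconj σ (by rw [h]; exact Subgroup.mem_top σ) i
  · by_cases hσ : σ ∈ (MulAut.conj : Cfsg.Spor.He →* MulAut Cfsg.Spor.He).range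
    · exact hconj σ hσ i
    · have hr : rho ∉ (MulAut.conj : Cfsg.Spor.He →* MulAut Cfsg.Spor.He).range := by
        rintro ⟨k, hk⟩
        exact rho_outer k hk.symm
      have h1 : σ * rho ∈ (MulAut.conj : Cfsg.Spor.He →* MulAut Cfsg.Spor.He).range := by
        rw [Subgroup.mul_mem_iff_of_index_two h]
        exact ⟨fun h => absurd h hσ, fun h => absurd h hr⟩
      have h2 := map_St (lt_iff_of_rangeCheck okT rangeT) (α := rho) phi_rho i
      obtain ⟨j, hj⟩ := hconj _ h1 ⟨_, (lt_iff_of_rangeCheck okT rangeT i).2 i.2⟩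
      refine ⟨j, ?_⟩
      rw [← hj, ← h2, Subgroup.map_map]
      congr 1
      refine MonoidHom.ext fun k => ?_
      show σ k = (σ * rho) (rho k)
      have h3 : rho (rho k) = k := DFunLike.congr_fun rho_sq k
      rw [MulAut.mul_apply, h3]

open Cfsg.Agent.H727.Orth Cfsg.Agent.Characters.Core in
theorem evenO : EvenO Cfsg.Spor.He := by
  have hs : IsSimpleGroup Cfsg.Spor.He := KFacts.He.Cent.simpleHe
  have hn : Nat.card Cfsg.Spor.He = 4030387200 := KFacts.He.Cent.card_He
  have hna := Cfsg.Agent.H253.TC.not_comm_of_card hn (by norm_num) (p := 17) (by norm_num) (by norm_num) (by norm_num)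
  have := Fintype.ofFinite Cfsg.Spor.He
  obtain ⟨χ, h1, h2, -, h4⟩ := exists_chars
  refine evenO_of_points (center_bot_of_simple hna) St St_injective map_aut ?_ (a := 7) ?_ ?_
  · intro s x
    rw [map_conj, St_injective.eq_iff, Fin.ext_iff]
    rfl
  · have h5 : (fun s : Cfsg.Spor.He => (Nat.card {x : Fin 8330 // s ∈ St x} : ℂ)) = ∑ s, χ s := by
      funext g
      rw [Finset.sum_apply, h4]
      rfl
    rw [h5, norm_sum_irr h1 h2]
    norm_num
  · rw [Nat.card_eq_fintype_card, Fintype.card_fin]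
    decide

end Cfsg.Agent.H253.Orth.He

namespace Cfsg.Agent.H253.Orth

universe v

open Cfsg Cfsg.Agent.H727.Orth

/-- **The Held group.** -/
theorem evenO_he {K : Type v} [Group K] [Finite K] (h : Spor.IsoHe K) : EvenO K := by
  obtain ⟨e⟩ := h
  exact EvenO.congr e.symm He.evenO

end Cfsg.Agent.H253.Orth
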