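import Cfsg.Agent.H727.Orth.SporTool
import Cfsg.Agent.H792.Sp.JThreeCen

/-!
# `J₃`: an even-degree orthogonal character (S4869, helper253)

The elements of order 3 whose centralizer contains a Sylow 3-subgroup form one class.
-/

set_option autoImplicit false

namespace Cfsg.Agent.H253.Orth

open Cfsg Subgroup

universe u

/-- a `p`-element with full Sylow centralizer is conjugate into the centre of a given Sylow subgroup -/
theorem exists_conj_cen {G : Type*} [Group G] [Finite G] {p : ℕ} [Fact p.Prime] {z : G} {k : ℕ}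
    (hz : orderOf z = p) (hk : (Nat.card G).factorization p = k) (hd : p ^ k ∣ Nat.card (centralizer ({z} : Set G)))
    (S : Sylow p G) :
    ∃ g : G, g * z * g⁻¹ ∈ (S : Subgroup G) ⊓ centralizer ((S : Subgroup G) : Set G) := by
  obtain ⟨T⟩ : Nonempty (Sylow p (centralizer ({z} : Set G))) := inferInstance
  have hzC : z ∈ centralizer ({z} : Set G) := mem_centralizer_singleton_iff.2 rfl
  -- `z` lies in `T`
  have hzT : (⟨z, hzC⟩ : centralizer ({z} : Set G)) ∈ (T : Subgroup (centralizer ({z} : Set G))) := by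
    have hcen : (⟨z, hzC⟩ : centralizer ({z} : Set G)) ∈ center (centralizer ({z} : Set G)) := by
      rw [mem_center_iff]
      exact fun c => Subtype.ext (mem_centralizer_singleton_iff.1 c.2)
    have h1 : IsPGroup p (zpowers (⟨z, hzC⟩ : centralizer ({z} : Set G))) := by
      refine IsPGroup.of_card (n := 1) ?_
      rw [Nat.card_zpowers, Subgroup.orderOf_mk, hz, pow_one]
    have hn : (zpowers (⟨z, hzC⟩ : centralizer ({z} : Set G))).Normal := by
      constructor
      rintro _ ⟨j, rfl⟩ g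
      refine ⟨j, ?_⟩
      have h2 := (mem_center_iff.1 (zpow_mem hcen j) g)
      show _ = g * _ * g⁻¹
      rw [h2, mul_inv_cancel_right]
    have h3 : IsPGroup p ((T : Subgroup (centralizer ({z} : Set G))) ⊔
        zpowers (⟨z, hzC⟩ : centralizer ({z} : Set G)) : Subgroup _) := IsPGroup.to_sup_of_normal_right T.2 h1
    have h4 := T.3 h3 le_sup_left
    rw [← h4]
    exact (le_sup_right : zpowers (⟨z, hzC⟩ : centralizer ({z} : Set G)) ≤ _) (mem_zpowers _)
  let T' : Subgroup G := (T : Subgroup (centralizer ({z} : Set G))).map (centralizer ({z} : Set G)).subtype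
  have hT' : Nat.card T' = p ^ (Nat.card G).factorization p := by
    have h1 : Nat.card T' = Nat.card (T : Subgroup (centralizer ({z} : Set G))) :=
      Nat.card_congr ((T : Subgroup (centralizer ({z} : Set G))).equivMapOfInjective _
        (Subgroup.subtype_injective _)).symm.toEquiv
    have hp : p.Prime := Fact.out
    rw [h1, T.card_eq_multiplicity]
    congr 1
    apply le_antisymm
    · exact (Nat.factorization_le_iff_dvd Nat.card_pos.ne' Nat.card_pos.ne').2 (card_subgroup_dvd_card _) p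
    · rw [hk]
      exact (hp.pow_dvd_iff_le_factorization Nat.card_pos.ne').1 hd
  let P : Sylow p G := Sylow.ofCard T' hT'
  obtain ⟨g, hg⟩ := MulAction.exists_smul_eq G P S
  have h1 : (S : Subgroup G) = T'.map (MulAut.conj g).toMonoidHom := by
    rw [← hg]; rfl
  refine ⟨g, ?_, ?_⟩
  · rw [h1]
    exact ⟨z, ⟨_, hzT, rfl⟩, rfl⟩
  · show g * z * g⁻¹ ∈ centralizer ((S : Subgroup G) : Set G)
    rw [mem_centralizer_iff]
    intro y hy
    rw [SetLike.mem_coe, h1] at hy
    obtain ⟨_, ⟨c, hc, rfl⟩, rfl⟩ := hy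
    have h2 : (c : G) * z = z * c := mem_centralizer_singleton_iff.1 c.2
    show g * (c : G) * g⁻¹ * (g * z * g⁻¹) = g * z * g⁻¹ * (g * (c : G) * g⁻¹)
    calc g * (c : G) * g⁻¹ * (g * z * g⁻¹) = g * ((c : G) * z) * g⁻¹ := by group
      _ = g * (z * c) * g⁻¹ := by rw [h2]
      _ = _ := by group

end Cfsg.Agent.H253.Orth

namespace Cfsg.Agent.H253.Orth.J3

open Subgroup Cfsg Cfsg.Spor Cfsg.Agent.H792.SpJ3 Cfsg.Agent.J3.Core Cfsg.Agent.J3.Tab
  Cfsg.Agent.J3.Mono Cfsg.Agent.J3.Elts Cfsg.Agent.H898.J3Three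
open Cfsg.Agent.J3.Nineteen (exists_scalar center_eq card_center)

variable {F : Type*} [Field F] {ω : F}

theorem trans9 : ∀ Z W : F9, Z ≠ 0 → W ≠ 0 → ∃ u : F9, u ≠ 0 ∧ F9.mul (conj9 u) Z = W := by decide

theorem conj_a (H : Good ω) (G : Gens F ω) {Z W : F9} (hZ : Z ≠ 0) (hW : W ≠ 0) :
    IsConj (G.a W) (G.a Z) := by
  obtain ⟨u, hu, huW⟩ := trans9 Z W hZ hW
  refine isConj_iff.2 ⟨G.b u, ?_⟩
  have h1 : G.a Z * G.b u = G.b u * G.a W := by
    apply mat_injective
    rw [map_mul, map_mul, G.ha, G.hb u hu, G.ha, ← huW]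
    exact relAB H Z u hu
  rw [← h1, mul_inv_cancel_right]

theorem cen_form [Fintype F] (hF : Fintype.card F = 4) (H : Good ω) (G : Gens F ω) [Fact (Nat.Prime 3)]
    (S : Sylow 3 (Spor.J3 F ω)) (hS : ∀ x : Spor.J3 F ω, x ∈ (S : Subgroup (Spor.J3 F ω)) ↔
      ∃ (k : ℕ) (a w : F9), x = pr (G.e ^ k * (G.a a * G.d w))) {z : Spor.J3 F ω}
    (hz : z ∈ (S : Subgroup (Spor.J3 F ω)) ⊓ centralizer ((S : Subgroup (Spor.J3 F ω)) : Set (Spor.J3 F ω)))
    (hz1 : z ≠ 1) : ∃ a : F9, a ≠ 0 ∧ z = pr (G.a a) := by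
  have h1 : z ∈ Z H G := cen_le_model hF H G S hS hz
  obtain ⟨a, rfl⟩ := h1
  refine ⟨a, ?_, rfl⟩
  rintro rfl
  apply hz1
  rw [a_zero H G, map_one]

/-- the class of the central elements of a Sylow 3-subgroup -/
theorem data {K : Type*} [Group K] (h : IsoJ3 K) : ∃ y : K, orderOf y = 3 ∧ 243 ∣ Nat.card (centralizer ({y} : Set K)) ∧
    ∀ z : K, orderOf z = 3 → 243 ∣ Nat.card (centralizer ({z} : Set K)) → IsConj y z := by
  have : Fact (Nat.Prime 3) := ⟨Nat.prime_three⟩
  have hn : Nat.card K = 50232960 := NotCT.Orders.j3 h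
  have hfK : Finite K := Nat.finite_of_card_ne_zero (by rw [hn]; norm_num)
  obtain ⟨F, _, _, ω, hF, hω, ⟨e⟩⟩ := h
  have H := good_of_card hF hω
  obtain ⟨G⟩ := exists_gens hF H
  obtain ⟨S0, hS0⟩ := exists_S hF H G
  let S1 : Sylow 3 K := S0.mapSurjective (f := e.symm.toMonoidHom) e.symm.surjective
  have hfac : (Nat.card K).factorization 3 = 5 := by
    rw [hn, show (50232960 : ℕ) = 3 ^ 5 * 206720 by norm_num,
      Nat.factorization_mul (by norm_num) (by norm_num), Finsupp.add_apply, Nat.prime_three.factorization_pow,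
      Finsupp.single_eq_same, Nat.factorization_eq_zero_of_not_dvd (by norm_num)]
  have key : ∀ z : K, z ∈ (S1 : Subgroup K) ⊓ centralizer ((S1 : Subgroup K) : Set K) → z ≠ 1 →
      ∃ a : F9, a ≠ 0 ∧ e z = pr (G.a a) := by
    intro z hz hz1
    refine cen_form hF H G S0 hS0 ?_ (fun h => hz1 (e.injective (by rw [h, map_one])))
    obtain ⟨h1, h2⟩ := hz
    have h3 : (S1 : Subgroup K) = (S0 : Subgroup (Spor.J3 F ω)).map e.symm.toMonoidHom := rfl
    refine ⟨?_, ?_⟩
    · rw [SetLike.mem_coe, h3] at h1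
      obtain ⟨w, hw, rfl⟩ := h1
      show e (e.symm w) ∈ _
      rw [e.apply_symm_apply]
      exact hw
    · show e z ∈ centralizer _
      rw [mem_centralizer_iff]
      intro w hw
      have h4 : e.symm w * z = z * e.symm w := mem_centralizer_iff.1 h2 (e.symm w) ⟨w, hw, rfl⟩
      have h5 := congrArg e h4
      rwa [map_mul, map_mul, e.apply_symm_apply] at h5
  -- a central element
  have hcard : Nat.card (S1 : Subgroup K) = 3 ^ 5 := by rw [S1.card_eq_multiplicity, hfac]
  have hnt : Nontrivial (S1 : Subgroup K) := by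
    rw [← Finite.one_lt_card_iff_nontrivial, hcard]; norm_num
  have hcn := S1.2.center_nontrivial
  obtain ⟨c, hc⟩ := exists_ne (1 : center (S1 : Subgroup K))
  set y : K := ((c : (S1 : Subgroup K)) : K) with hy
  have hy1 : y ≠ 1 := fun h => hc (Subtype.ext (Subtype.ext h))
  have hyc : ∀ w ∈ (S1 : Subgroup K), w * y = y * w := fun w hw =>
    congrArg Subtype.val (mem_center_iff.1 c.2 ⟨w, hw⟩)
  have hyS : y ∈ (S1 : Subgroup K) ⊓ centralizer ((S1 : Subgroup K) : Set K) :=
    ⟨c.1.2, mem_centralizer_iff.2 hyc⟩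
  obtain ⟨a, ha, hya⟩ := key y hyS hy1
  have ho : orderOf y = 3 := by
    refine orderOf_eq_prime ?_ hy1
    have : Fact (Nat.Prime 3) := ⟨Nat.prime_three⟩
    exact Cfsg.Agent.H792.SpJ3.expZ_j3 ⟨F, inferInstance, inferInstance, ω, hF, hω, ⟨e⟩⟩ S1 y hyS
  refine ⟨y, ho, ?_, ?_⟩
  · have h1 : (S1 : Subgroup K) ≤ centralizer ({y} : Set K) := fun w hw =>
      mem_centralizer_singleton_iff.2 (hyc w hw)
    have h2 := card_dvd_of_le h1
    rw [hcard] at h2
    exact h2
  · intro z hz hzd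
    obtain ⟨g, hg⟩ := exists_conj_cen hz hfac hzd S1
    have hz1 : g * z * g⁻¹ ≠ 1 := by
      intro h
      have h1 : z = 1 := by
        calc z = g⁻¹ * (g * z * g⁻¹) * g := by group
          _ = 1 := by rw [h]; group
      rw [h1, orderOf_one] at hz
      norm_num at hz
    obtain ⟨b, hb, hzb⟩ := key _ hg hz1
    have h1 : IsConj (e y) (e (g * z * g⁻¹)) := by
      rw [hya, hzb]
      exact (pr (ω := ω)).map_isConj (conj_a H G hb ha)
    have h2 : IsConj y (g * z * g⁻¹) := by
      have h3 := e.symm.toMonoidHom.map_isConj h1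
      have e1 : ∀ x : K, e.symm.toMonoidHom (e x) = x := e.symm_apply_apply
      rwa [e1, e1] at h3
    exact h2.trans (isConj_iff.2 ⟨g, rfl⟩).symm

theorem odd_cent {K : Type*} [Group K] (h : IsoJ3 K) {y : K} (hy : orderOf y = 3)
    (hd : 243 ∣ Nat.card (centralizer ({y} : Set K))) : Odd (Nat.card (centralizer ({y} : Set K))) := by
  have hn : Nat.card K = 50232960 := NotCT.Orders.j3 h
  have hfK : Finite K := Nat.finite_of_card_ne_zero (by rw [hn]; norm_num)
  by_contra hcon
  rw [Nat.not_odd_iff_even, even_iff_two_dvd] at hcon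
  have : Fact (Nat.Prime 2) := ⟨Nat.prime_two⟩
  obtain ⟨t, ht⟩ := exists_prime_orderOf_dvd_card' 2 hcon
  obtain ⟨-, hM, hone, -⟩ := CpAutJThree.base h
  obtain ⟨c, hc, ⟨s, hs, hsc⟩, hcc⟩ := CpAutJThree.exc h
  have ht' : orderOf (t : K) = 2 := by rw [← ht]; exact Subgroup.orderOf_coe t
  obtain ⟨g, hg⟩ := CpAutJThree.conj_three hM hone hc hy hs ht' hsc (mem_centralizer_singleton_iff.1 t.2)
  have h1 : Nat.card (centralizer ({y} : Set K)) = 1080 := by
    rw [← CpAutJThree.card_centralizer_conj g hg]; exact hcc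
  rw [h1] at hd
  norm_num at hd

end Cfsg.Agent.H253.Orth.J3

namespace Cfsg.Agent.H253.Orth

universe v

open Subgroup Cfsg
open Cfsg.Agent.H727.Orth in
/-- **The third Janko group.** -/
theorem evenO_j3 {K : Type v} [Group K] [IsSimpleGroup K] [Finite K] (h : Spor.IsoJ3 K) : EvenO K := by
  have hn : Nat.card K = 50232960 := NotCT.Orders.j3 h
  have hna := Cfsg.Agent.H253.TC.not_comm_of_card hn (by norm_num) (p := 5) (by norm_num) (by norm_num) (by norm_num)
  obtain ⟨y, hy, hd, hfus⟩ := J3.data h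
  refine evenO_of_cent (center_bot_of_simple hna) (y := y) ?_ (hfus _ (by rw [orderOf_inv, hy]) ?_)
    (J3.odd_cent h hy hd) fun z hz hc => hfus z (by rw [hz, hy]) (by rw [hc]; exact hd)
  · rintro rfl
    rw [orderOf_one] at hy
    norm_num at hy
  · have h1 : centralizer ({y⁻¹} : Set K) = centralizer ({y} : Set K) := by
      ext c
      rw [mem_centralizer_singleton_iff, mem_centralizer_singleton_iff]
      exact Commute.inv_right_iff (a := c) (b := y)
    rw [h1]
    exact hd

end Cfsg.Agent.H253.Orth
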