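import Cfsg.Agent.H727.Orth.SporTool
import Cfsg.Agent.H34.SporMcL
import Cfsg.Agent.H253.TwoComm.SporTool

/-!
# The McLaughlin group: an even-degree orthogonal character (S4869, helper253)

The 24-dimensional character of the stabilizer of the triangle in `Co₀`, which is the automorphism group of `McL`.
-/

set_option autoImplicit false

namespace Cfsg.Agent.H253.Orth.McL

open Cfsg Cfsg.Spor Subgroup Cfsg.Agent.H419.LeechIrr Cfsg.Agent.Co2Type.Mono Cfsg.Agent.SporadicStructure.Co0Base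
open Cfsg.Agent.SigZeroCo2.Lin
open Cfsg.Agent.Characters.Core
open Cfsg.Agent.H694 (RChar mu mu_eq)
open Cfsg.Agent.H705.StrongLin (ind)
open Representation

/-! ### The form -/

theorem matC_orth (g : Co0) : (matC g).transpose * matC g = 1 := by
  ext i j
  rw [Matrix.mul_apply, Matrix.one_apply]
  have h1 := co0_dotInt g (e8 i) (e8 j)
  have h2 : dotInt ((e8 i : leechLattice) : GolayPt → ℤ) ((e8 j : leechLattice) : GolayPt → ℤ) =
      if i = j then 64 else 0 := by
    rw [e8_coe, e8_coe, dotInt]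
    by_cases h : i = j
    · subst h
      rw [if_pos rfl, Finset.sum_eq_single i]
      · rw [Pi.single_eq_same]; norm_num
      · intro k _ hk
        rw [Pi.single_eq_of_ne hk, zero_mul]
      · intro h; exact absurd (Finset.mem_univ i) h
    · rw [if_neg h]
      refine Finset.sum_eq_zero fun k _ => ?_
      by_cases hk : k = i
      · subst hk
        rw [Pi.single_eq_of_ne h, mul_zero]
      · rw [Pi.single_eq_of_ne hk, zero_mul]
  rw [h2, dotInt] at h1
  have h3 : ∀ k : GolayPt, (matC g).transpose i k * matC g k j =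
      ((((((g • e8 i : leechLattice) : GolayPt → ℤ) k * ((g • e8 j : leechLattice) : GolayPt → ℤ) k : ℤ)) : ℂ)) / 64 := by
    intro k
    simp only [Matrix.transpose_apply, matC, mat, Matrix.map_apply]
    push_cast
    simp
    ring
  rw [Finset.sum_congr rfl fun k _ => h3 k, ← Finset.sum_div, ← Int.cast_sum, h1]
  split_ifs <;> norm_num

theorem repC_dot (g : Co0) (v w : GolayPt → ℂ) : repC g v ⬝ᵥ repC g w = v ⬝ᵥ w := by
  show (Matrix.toLin' (matC g)) v ⬝ᵥ (Matrix.toLin' (matC g)) w = v ⬝ᵥ w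
  rw [Matrix.toLin'_apply, Matrix.toLin'_apply, Matrix.dotProduct_mulVec, ← Matrix.vecMul_transpose,
    Matrix.vecMul_vecMul, matC_orth, Matrix.vecMul_one]

section rchar

variable {G : Type*} [Group G] (f : G →* Co0)

/-- the symmetric form -/
noncomputable def dform : (GolayPt → ℂ) →ₗ[ℂ] Module.Dual ℂ (GolayPt → ℂ) :=
  LinearMap.mk₂ ℂ (fun v w => v ⬝ᵥ w) (fun _ _ _ => add_dotProduct _ _ _) (fun _ _ _ => smul_dotProduct _ _ _)
    (fun _ _ _ => dotProduct_add _ _ _) (fun _ _ _ => dotProduct_smul _ _ _)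

theorem dform_apply (v w : GolayPt → ℂ) : dform v w = v ⬝ᵥ w := rfl

noncomputable def F : IntertwiningMap (rp f) (Representation.dual (rp f)) :=
  LinearMap.intertwiningMap_of_isIntertwiningMap (rp f) (Representation.dual (rp f)) dform (by
    intro h v
    apply LinearMap.ext
    intro w
    have h1 := repC_dot (f h) v (repC (f h)⁻¹ w)
    rw [← Module.End.mul_apply, ← map_mul, mul_inv_cancel, map_one, Module.End.one_apply] at h1
    simp only [Representation.dual_apply, Module.Dual.transpose_apply, LinearMap.coe_comp, Function.comp_apply]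
    show repC (f h) v ⬝ᵥ w = v ⬝ᵥ repC (f h⁻¹) w
    rw [map_inv]
    exact h1)

theorem F_apply (v w : GolayPt → ℂ) : F f v w = v ⬝ᵥ w := rfl

theorem rchar_lchi [Fintype G] : RChar (lchi f) where
  cf := isCharacter_isClassFunction (isCharacter_lchi f)
  int ψ hψ := by
    obtain ⟨n, hn⟩ := classInner_isNat (isCharacter_lchi f) (isIrr_isCharacter hψ)
    exact ⟨n, by rw [hn]; push_cast; rfl⟩
  real g := by
    show (starRingEnd ℂ) ((tr8 (f g) : ℂ) / 8) = (tr8 (f g) : ℂ) / 8
    rw [map_div₀, map_intCast, Complex.conj_ofNat]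
  even ψ hψ hi := by
    obtain ⟨m, σ, hσ, rfl⟩ := hψ
    obtain ⟨B, hB, hBs⟩ := Cfsg.Agent.H694.exists_form σ (ε := -1) (by norm_num) hi
    have heven := Cfsg.Agent.H694.Alt.even_mult (rp f) σ (F f) (fun v hv => by
        have h1 : ∀ w : GolayPt → ℂ, v ⬝ᵥ w = 0 := fun w => by
          rw [← F_apply f, hv]; rfl
        exact dotProduct_eq_zero v h1) (ε := 1) (fun v w => by
        rw [F_apply, F_apply, one_mul, dotProduct_comm]) B hB hBs (by norm_num)
    obtain ⟨k, hk⟩ := heven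
    refine ⟨k, ?_⟩
    have h4 := classInner_character (rp f) σ
    rw [hk, ← lchi_eq] at h4
    rw [h4]
    push_cast
    ring

end rchar

/-! ### The automorphism group -/

open Cfsg.Agent.H997.OutMcL Cfsg.Agent.H34.SporMcL

/-- the stabilizer of the triangle -/
def NN : Subgroup (Equiv.Perm leechLattice) where
  carrier := {c | c ∈ Co0 ∧ c leechV = leechV ∧ (c leechU = leechU ∧ c W = W ∨ c leechU = W ∧ c W = leechU)}
  one_mem' := ⟨one_mem _, rfl, Or.inl ⟨rfl, rfl⟩⟩
  mul_mem' := by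
    rintro a b ⟨ha, haV, haU⟩ ⟨hb, hbV, hbU⟩
    refine ⟨mul_mem ha hb, by rw [Equiv.Perm.mul_apply, hbV, haV], ?_⟩
    simp only [Equiv.Perm.mul_apply]
    rcases haU with ⟨h1, h2⟩ | ⟨h1, h2⟩ <;> rcases hbU with ⟨h3, h4⟩ | ⟨h3, h4⟩ <;> rw [h3, h4, h1, h2]
    · exact Or.inl ⟨rfl, rfl⟩
    · exact Or.inr ⟨rfl, rfl⟩
    · exact Or.inr ⟨rfl, rfl⟩
    · exact Or.inl ⟨rfl, rfl⟩
  inv_mem' := by
    rintro a ⟨ha, haV, haU⟩
    refine ⟨inv_mem ha, by rw [Equiv.Perm.inv_eq_iff_eq, haV], ?_⟩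
    simp only [Equiv.Perm.inv_eq_iff_eq]
    rcases haU with ⟨h1, h2⟩ | ⟨h1, h2⟩
    · exact Or.inl ⟨h1.symm, h2.symm⟩
    · exact Or.inr ⟨h2.symm, h1.symm⟩

theorem mcl_le : McL ≤ NN := fun x hx => by
  have h := mem_McL.1 hx
  exact ⟨h.1, h.2.1, Or.inl ⟨h.2.2, by rw [map_W h.1 h.2.1, h.2.2]; rfl⟩⟩

theorem le_normalizer : NN ≤ normalizer (McL : Set (Equiv.Perm leechLattice)) := by
  rintro c ⟨hc, hV, ⟨hU, -⟩ | ⟨hU, hW⟩⟩
  · exact Subgroup.le_normalizer (mem_McL.2 ⟨hc, hV, hU⟩)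
  · exact mem_normalizer hc hV hU hW

/-- the action on `McL` -/
def Phi : NN →* MulAut McL := (Subgroup.normalizerMonoidHom McL).comp (Subgroup.inclusion le_normalizer)

theorem Phi_apply (c : NN) (x : McL) : ((Phi c x : McL) : Equiv.Perm leechLattice) = c * x * (c : Equiv.Perm leechLattice)⁻¹ :=
  rfl

theorem center_mcl : Subgroup.center McL = ⊥ := by
  obtain ⟨hfin, hsimple, hcard, ⟨L⟩⟩ := TypeM.FactsMcL.exists_mt_mcl
  rcases IsSimpleGroup.eq_bot_or_eq_top_of_normal (Subgroup.center McL) inferInstance with h | h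
  · exact h
  · exfalso
    have hcomm : ∀ a b : McL, a * b = b * a := fun a b =>
      (Subgroup.mem_center_iff.1 (by rw [h]; trivial : b ∈ Subgroup.center McL) a)
    let _ : CommGroup McL := { (inferInstance : Group McL) with mul_comm := hcomm }
    have hp := IsSimpleGroup.prime_card (α := McL)
    rw [hcard] at hp
    revert hp
    norm_num

theorem Phi_injective : Function.Injective Phi := by
  rw [injective_iff_map_eq_one]
  rintro ⟨c, hc, hV, h⟩ h1
  rcases h with ⟨hU, hW⟩ | ⟨hU, hW⟩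
  · have hcM : c ∈ McL := mem_McL.2 ⟨hc, hV, hU⟩
    have hz : (⟨c, hcM⟩ : McL) ∈ Subgroup.center McL := by
      rw [Subgroup.mem_center_iff]
      intro x
      apply Subtype.ext
      have h2 := congrArg (fun β : MulAut McL => ((β x : McL) : Equiv.Perm leechLattice)) h1
      have h3 : c * (x : Equiv.Perm leechLattice) * c⁻¹ = x := h2
      show (x : Equiv.Perm leechLattice) * c = c * x
      conv_lhs => rw [← h3]
      group
    rw [center_mcl, Subgroup.mem_bot] at hz
    exact Subtype.ext (show c = 1 from congrArg (fun y : McL => (y : Equiv.Perm leechLattice)) hz)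
  · exfalso
    refine outer_ne hc hV hU hW (le_normalizer ⟨hc, hV, Or.inr ⟨hU, hW⟩⟩) 1 ?_
    rw [map_one]
    exact h1

theorem Phi_surjective : Function.Surjective Phi := by
  intro σ
  obtain ⟨f, hf, hV, hU, hW⟩ := Cfsg.Agent.H997.OutMcL.exists_swap
  have hn := mem_normalizer hf hV hU hW
  by_cases h : σ ∈ (MulAut.conj : McL →* MulAut McL).range
  · obtain ⟨k, rfl⟩ := h
    exact ⟨⟨k, mcl_le k.2⟩, rfl⟩
  · have hi : (MulAut.conj : McL →* MulAut McL).range.index = 2 := card_out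
    have h1 : Subgroup.normalizerMonoidHom McL ⟨f, hn⟩ ∉ (MulAut.conj : McL →* MulAut McL).range := by
      rintro ⟨k, hk⟩
      exact outer_ne hf hV hU hW hn k hk.symm
    have h2 : (Subgroup.normalizerMonoidHom McL ⟨f, hn⟩)⁻¹ ∉ (MulAut.conj : McL →* MulAut McL).range :=
      fun h3 => h1 (by simpa using inv_mem h3)
    have h3 := (Subgroup.mul_mem_iff_of_index_two hi (a := (Subgroup.normalizerMonoidHom McL ⟨f, hn⟩)⁻¹) (b := σ)).2
      ⟨fun h4 => absurd h4 h2, fun h4 => absurd h4 h⟩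
    obtain ⟨k, hk⟩ := h3
    have h4 : σ = Subgroup.normalizerMonoidHom McL ⟨f, hn⟩ * MulAut.conj k := by
      rw [hk, mul_inv_cancel_left]
    have hfN : f ∈ NN := ⟨hf, hV, Or.inr ⟨hU, hW⟩⟩
    refine ⟨⟨f, hfN⟩ * ⟨k, mcl_le k.2⟩, ?_⟩
    rw [map_mul, h4]
    rfl

/-- the automorphism group of `McL` -/
noncomputable def ePhi : NN ≃* MulAut McL := MulEquiv.ofBijective Phi ⟨Phi_injective, Phi_surjective⟩

theorem NN_le : NN ≤ Co0 := fun _ h => h.1

/-- its embedding in `Co₀` -/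
noncomputable def gg : MulAut McL →* Co0 :=
  (Subgroup.inclusion NN_le).comp ePhi.symm.toMonoidHom

theorem gg_conj (x : McL) : gg (MulAut.conj x) = ⟨x, (mem_McL.1 x.2).1⟩ := by
  have h1 : MulAut.conj x = ePhi ⟨x, mcl_le x.2⟩ := rfl
  have h2 : ePhi.symm (MulAut.conj x) = ⟨x, mcl_le x.2⟩ := by rw [h1, MulEquiv.symm_apply_apply]
  show Subgroup.inclusion NN_le (ePhi.symm (MulAut.conj x)) = _
  rw [h2]
  rfl

open Cfsg.Agent.H713.Spor.McL Cfsg.Agent.SporadicRecognition.HSRank Cfsg.Agent.H727.Orth in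
theorem evenO : EvenO McL := by
  obtain ⟨hfin, hsimple, hcard, ⟨L⟩⟩ := TypeM.FactsMcL.exists_mt_mcl
  have := Fintype.ofFinite McL
  have := Fintype.ofFinite (MulAut McL)
  obtain ⟨μ, -, hμ⟩ := exists_22
  have hμd := Cfsg.Agent.H713.Spor.HS.degree_of_lchi hμ
  obtain ⟨α, hα⟩ : ∃ α : IrrCharacter McL, (α : McL → ℂ) = (μ : ↥(K (-leechV) leechU) → ℂ) ∘ mclEquiv :=
    ⟨⟨_, isIrr_comp mclEquiv.toMonoidHom mclEquiv.surjective μ.2⟩, rfl⟩
  have hαd : charDegree (α : McL → ℂ) = 22 := by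
    rw [hα]
    have := H687.charDegree_comp mclEquiv.toMonoidHom (μ : ↥(K (-leechV) leechU) → ℂ)
    rw [show (μ : ↥(K (-leechV) leechU) → ℂ) ∘ mclEquiv = (μ : ↥(K (-leechV) leechU) → ℂ) ∘ mclEquiv.toMonoidHom from rfl,
      this]
    omega
  have hval : ∀ y : McL, lchi gg (MulAut.conj y) = 2 + (α : McL → ℂ) y := by
    intro y
    have h2 := hμ (mclEquiv y)
    have h3 : lchi (K (-leechV) leechU).subtype (mclEquiv y) =
        (Co2Type.Mono.tr8 (⟨y, (mem_McL.1 y.2).1⟩ : Co0) : ℂ) / 8 := rfl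
    rw [h3] at h2
    show (tr8 (gg (MulAut.conj y)) : ℂ) / 8 = _
    rw [gg_conj, hα, h2]
    simp
  have hfun : (fun s : McL => lchi gg (MulAut.conj s)) = (2 : ℂ) • (1 : McL → ℂ) + (α : McL → ℂ) := by
    funext s
    rw [hval]
    simp
  have hα1 : (α : McL → ℂ) ≠ 1 := by
    intro h
    rw [h] at hαd
    have : charDegree (1 : McL → ℂ) = 1 := by
      unfold charDegree
      simp
    omega
  have hinner : classInner (fun s : McL => lchi gg (MulAut.conj s)) (α : McL → ℂ) = ((1 : ℤ) : ℂ) := by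
    rw [hfun, classInner_add_left, classInner_smul_left, classInner_irr_ne isIrr_one α.2 (Ne.symm hα1),
      classInner_irr_self α.2]
    simp
  have hR : RChar (lchi gg) := rchar_lchi gg
  have hR' : RChar (fun s : McL => lchi gg (MulAut.conj s)) := hR.comp (MulAut.conj : McL →* MulAut McL)
  -- the indicator
  have hreal : ind (α : McL → ℂ) ≠ 0 := by
    intro h
    obtain ⟨g, hg⟩ := (Cfsg.Agent.H694.ind_eq_zero_iff α.2).1 h
    apply hg
    have h1 := hval g
    have h2 : (α : McL → ℂ) g = ((tr8 (gg (MulAut.conj g)) : ℤ) : ℂ) / 8 - 2 := by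
      rw [eq_sub_iff_add_eq, add_comm]
      exact h1.symm
    rw [h2]
    have h3 : (((tr8 (gg (MulAut.conj g)) : ℤ) : ℂ) / 8 - 2) = (((tr8 (gg (MulAut.conj g)) : ℝ) / 8 - 2 : ℝ) : ℂ) := by
      push_cast
      rfl
    rw [h3, Complex.ofReal_im]
  have hind : ind (α : McL → ℂ) = 1 := by
    rcases Cfsg.Agent.H694.ind_cases α.2 with h | h | h
    · exact absurd h hreal
    · exact h
    · exfalso
      obtain ⟨n, hn⟩ := hR'.even _ α.2 h
      rw [hinner] at hn
      have : (1 : ℤ) = 2 * n := by exact_mod_cast hn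
      omega
  have hJf : Fintype (⊤ : Subgroup (MulAut McL)) := Fintype.ofFinite _
  refine ⟨α, α.2, hind, by rw [hαd]; decide, ?_⟩
  refine oext_of_real center_mcl α.2 hind ⊤ (fun _ => Subgroup.mem_top _)
    (π := fun x : (⊤ : Subgroup (MulAut McL)) => lchi gg (x : MulAut McL)) (hR.comp (Subgroup.subtype ⊤)) ?_ ?_
  · show Odd (mu (fun s : McL => lchi gg (MulAut.conj s)) (α : McL → ℂ))
    rw [mu_eq hinner]
    exact odd_one
  · rw [Subgroup.relIndex_top_left]
    exact odd_one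

end Cfsg.Agent.H253.Orth.McL

namespace Cfsg.Agent.H253.Orth

universe v

open Cfsg Cfsg.Agent.H727.Orth

/-- **The McLaughlin group.** -/
theorem evenO_mcl {K : Type v} [Group K] [Finite K] (h : Spor.IsoMcL K) : EvenO K := by
  obtain ⟨e⟩ := h
  have : Finite Spor.McL := Finite.of_equiv _ e.toEquiv
  exact EvenO.congr e.symm McL.evenO

end Cfsg.Agent.H253.Orth
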